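import Groth.Agent.QCohBase.Cech
import Mathlib.Algebra.Homology.Homotopy
import Mathlib.Algebra.Homology.Single

/-! # The Cech complex of a family containing its union -/

set_option autoImplicit false

noncomputable section

universe u

open CategoryTheory Limits TopologicalSpace Opposite

namespace Groth.Agent.CechContract

open QCohBase

variable {X : TopCat.{u}} {ι : Type u} (U : ι → Opens X) (P : (Opens X)ᵒᵖ ⥤ AddCommGrpCat.{u})

lemma inter_le_iSup {n : ℕ} (a : Fin (n + 1) → ι) : inter U a ≤ iSup U :=
  (iInf_le (fun j => U (a j)) 0).trans (le_iSup U (a 0))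

/-- the augmentation in degree zero -/
def aug₀ : P.obj (op (iSup U)) ⟶ (cech U P).X 0 :=
  AddCommGrpCat.ofHom
    ({ toFun := fun x a => QCohBase.res P (inter_le_iSup U a) x
       map_zero' := funext fun _ => map_zero _
       map_add' := fun _ _ => funext fun _ => map_add _ _ _ } : P.obj (op (iSup U)) →+ cochain U P (Fin 1))

lemma aug₀_d : aug₀ U P ≫ (cech U P).d 0 1 = 0 := by
  refine AddCommGrpCat.ext fun x => ?_
  refine (cech_d_apply U P 0 (fun a => QCohBase.res P (inter_le_iSup U a) x)).trans (funext fun a => ?_)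
  simp only [dCech, res_res]
  rw [Fin.sum_univ_two]
  simp only [Fin.val_zero, pow_zero, one_smul, Fin.val_one, pow_one, neg_smul, one_smul]
  exact add_neg_cancel _

variable {U} (i : ι) (hi : U i = iSup U)

include hi in
lemma iSup_le_inter : iSup U ≤ inter U (fun _ : Fin 1 => i) := le_iInf fun _ => hi.ge

include hi in
lemma inter_le_cons {n : ℕ} (t : Fin (n + 1) → ι) : inter U t ≤ inter U (Fin.cons i t : Fin (n + 2) → ι) :=
  le_iInf fun a => by
    induction a using Fin.cases with
    | zero => simpa [hi] using inter_le_iSup U t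
    | succ a => simpa using iInf_le (fun j => U (t j)) a

/-- evaluation at the distinguished index -/
def ev₀ : (cech U P).X 0 ⟶ P.obj (op (iSup U)) :=
  AddCommGrpCat.ofHom
    ({ toFun := fun s => QCohBase.res P (iSup_le_inter i hi) (s fun _ => i)
       map_zero' := map_zero _
       map_add' := fun _ _ => map_add _ _ _ } : cochain U P (Fin 1) →+ P.obj (op (iSup U)))

/-- the contraction -/
def con (n : ℕ) : (cech U P).X (n + 1) ⟶ (cech U P).X n :=
  AddCommGrpCat.ofHom
    ({ toFun := fun s t => QCohBase.res P (inter_le_cons i hi t) (s (Fin.cons i t))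
       map_zero' := funext fun _ => map_zero _
       map_add' := fun _ _ => funext fun _ => map_add _ _ _ } : cochain U P (Fin (n + 2)) →+ cochain U P (Fin (n + 1)))

lemma res_congr {n : ℕ} (s : cochain U P (Fin n)) {W : Opens X} {a b : Fin n → ι} (e : a = b)
    (ha : W ≤ inter U a) (hb : W ≤ inter U b) : QCohBase.res P ha (s a) = QCohBase.res P hb (s b) := by
  subst e; rfl

lemma con_d_zero (s : (cech U P).X 0) :
    con P i hi 0 ((cech U P).d 0 1 s) = s - aug₀ U P (ev₀ P i hi s) := by
  refine (congrArg (con P i hi 0) (cech_d_apply U P 0 s)).trans (funext fun t => ?_)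
  show QCohBase.res P _ (dCech U P 0 s (Fin.cons i t)) =
    s t - QCohBase.res P _ (QCohBase.res P _ (s fun _ => i))
  simp only [dCech, map_sum, map_zsmul, res_res]
  rw [Fin.sum_univ_two]
  simp only [Fin.val_zero, pow_zero, one_smul, Fin.val_one, pow_one, neg_smul, ← sub_eq_add_neg]
  congr 1
  · refine (res_congr P s (b := t) ?_ _ le_rfl).trans (res_refl P _ _)
    ext a; simp
  · refine res_congr P s ?_ _ _
    ext a
    fin_cases a
    simp

lemma con_d_succ (n : ℕ) (s : cochain U P (Fin (n + 2))) :
    (cech U P).d n (n + 1) (con P i hi n s) + con P i hi (n + 1) ((cech U P).d (n + 1) (n + 2) s) = s := by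
  refine (congrArg₂ (· + ·) (cech_d_apply U P n (con P i hi n s))
    (congrArg (con P i hi (n + 1)) (cech_d_apply U P (n + 1) s))).trans (funext fun t => ?_)
  show dCech U P n (fun t => QCohBase.res P (inter_le_cons i hi t) (s (Fin.cons i t))) t +
    QCohBase.res P _ (dCech U P (n + 1) s (Fin.cons i t)) = s t
  simp only [dCech, map_sum, map_zsmul, res_res]
  rw [Fin.sum_univ_succ (n := n + 2)]
  simp only [Fin.val_zero, pow_zero, one_smul, Fin.val_succ, pow_succ, mul_neg_one, neg_smul]
  rw [Finset.sum_neg_distrib, add_left_comm]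
  have h0 : QCohBase.res P ((inter_le_cons i hi t).trans (inter_comp_le U (Fin.cons i t) (Fin.succAbove 0)))
      (s (Fin.cons i t ∘ Fin.succAbove 0)) = s t := by
    refine (res_congr P s (b := t) ?_ _ le_rfl).trans (res_refl P _ _)
    ext a; simp
  rw [h0, add_eq_left, ← sub_eq_add_neg, ← Finset.sum_sub_distrib]
  refine Finset.sum_eq_zero fun k _ => ?_
  rw [sub_eq_zero]
  refine congrArg ((-1 : ℤ) ^ (k : ℕ) • ·) (res_congr P s ?_ _ _)
  ext a
  induction a using Fin.cases with
  | zero => simp
  | succ a => simp [Fin.succ_succAbove_succ]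

/-- the homotopy equivalence -/
def homotopyEquiv : HomotopyEquiv ((CochainComplex.single₀ AddCommGrpCat.{u}).obj (P.obj (op (iSup U)))) (cech U P) where
  hom := (CochainComplex.fromSingle₀Equiv _ _).symm ⟨aug₀ U P, aug₀_d U P⟩
  inv := (CochainComplex.toSingle₀Equiv _ _).symm (ev₀ P i hi)
  homotopyHomInvId := Homotopy.ofEq (by
    refine HomologicalComplex.to_single_hom_ext ?_
    simp only [HomologicalComplex.comp_f, HomologicalComplex.id_f]
    refine (congrArg₂ (· ≫ ·) (CochainComplex.fromSingle₀Equiv_symm_apply_f_zero _ _)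
      (CochainComplex.toSingle₀Equiv_symm_apply_f_zero _)).trans ?_
    refine AddCommGrpCat.ext fun x => ?_
    show QCohBase.res P _ (QCohBase.res P _ x) = x
    rw [res_res]
    exact res_refl P _ _)
  homotopyInvHomId := by
    let h : ∀ a b, (ComplexShape.up ℕ).Rel b a → ((cech U P).X a ⟶ (cech U P).X b) := fun a b r =>
      eqToHom (congrArg (cech U P).X (show a = b + 1 from (show b + 1 = a from r).symm)) ≫ con P i hi b
    let g := (CochainComplex.toSingle₀Equiv _ _).symm (ev₀ P i hi) ≫
      (CochainComplex.fromSingle₀Equiv _ _).symm ⟨aug₀ U P, aug₀_d U P⟩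
    suffices e : Homotopy.nullHomotopicMap' h = 𝟙 (cech U P) - g from
      (Homotopy.equivSubZero.symm ((Homotopy.ofEq e.symm).trans (Homotopy.nullHomotopy' h))).symm
    refine HomologicalComplex.hom_ext _ _ fun n => ?_
    cases n with
    | zero =>
      rw [Homotopy.nullHomotopicMap'_f_of_not_rel_right (k₁ := 0) (k₀ := 1) rfl
        (fun l => by simp)]
      simp only [HomologicalComplex.sub_f_apply, HomologicalComplex.id_f, g, HomologicalComplex.comp_f,
        CochainComplex.fromSingle₀Equiv_symm_apply_f_zero, CochainComplex.toSingle₀Equiv_symm_apply_f_zero]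
      refine AddCommGrpCat.ext fun s => ?_
      simp only [h, eqToHom_refl, Category.id_comp]
      exact con_d_zero P i hi s
    | succ n =>
      rw [Homotopy.nullHomotopicMap'_f (k₂ := n) (k₁ := n + 1) (k₀ := n + 2) rfl rfl]
      have hg : g.f (n + 1) = 0 := by
        have h0 : ((CochainComplex.toSingle₀Equiv (cech U P) _).symm (ev₀ P i hi)).f (n + 1) = 0 :=
          (HomologicalComplex.isZero_single_obj_X (ComplexShape.up ℕ) 0 _ (n + 1) (by simp)).eq_of_tgt _ _
        simp only [g, HomologicalComplex.comp_f, h0, zero_comp]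
      rw [HomologicalComplex.sub_f_apply, HomologicalComplex.id_f, hg, sub_zero]
      refine AddCommGrpCat.ext fun s => ?_
      simp only [h, eqToHom_refl, Category.id_comp]
      refine Eq.trans ?_ (con_d_succ P i hi n s)
      exact add_comm _ _

end Groth.Agent.CechContract
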